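set_option autoImplicit false
namespace Cfsg.Agent.Lib.Helper6.TCD.G24a
noncomputable def GT (i : Nat) : Nat := Nat.land (Nat.shiftRight 0x19c30019930019630019610018b30018930018910018530018440018420018120017c20017a20017710017620017320016530016440016150016130016110016040016020015e00015b40015a40015a20015830015710015450015330015010014900014240014220014130014030013d30013710013120013050013030013010012c50012b30012b00012a50012a20012a00012820012300012020012010011f00011c10011b30011910011850011740011710011550011540011520011330011100011010010d40010b40010b20010a30010a20010a0001090001061001045001043001034001030001011001005000ff4000ff1000fd4000fc2000fc0000fb0000fa1000f95000f81000f75000f74000f72000f65000f63000f61000f22000f20000f05000f02000ef5000ef3000ef1000ee5000ee0000e85000e81000e71000e65000e64000e55000e53000e50000e20000e01000df5000df3000df1000dd1000dc2000dc0000db1000d95000d92000d83000d81000d43000d32000d30000d21000ce1000cc1000cb5000ca4000c91000c85000c84000c82000c75000c73000c72000c70000c60000c51000c45000c31000c24000c22000c15000c13000c11000c01000bf2000bd1000bc5000bb5000bb4000bb1000ba1000b95000b94000b92000b85000b83000b81000b71000b65000b64000b55000b53000b50000b40000b31000b25000b21000b05000b03000b00000af1000ae1000ad5000ad4000ac5000ac3000ac0000aa5000aa3000aa1000a81000a75000a71000a51000a45000a42000a35000a30000a11000a020009f50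009f30009f00009e50009e00009d30009d10009b10009a50009a20009a00009810009750009610009550009540009520009450009430009410009310009250009240009150009130009100008f50008f10008e10008d50008d40008d20008c50008c30008c00008a50008a30008a10008910008850008800008730008710008620008450008430008410008250008220008010007f50007f20007e10007d50007d30007c10007b50007b00007a30007a10007910007820007710007550007510007410007350007340007250007230007200007050007030007010006f50006f00006d50006d30006d10006b50006b20006950006910006820006730006550006520006350006330006210006150006130006050006040005f20005e10005d20005c20005b30005a20005950005900005750005730005710005550005520005410005250005220005050005030004e50004e20004d30004c40004a50004a30004950004940004850004840004810004730004520004430004330004240004130003f10003d50003d20003b50003b30003a20003850003830003750003740003450003430003340003320003250003240003230003200003040002f40002e30002d40002b40002b10002940002840002720002550002530002450002440002330002250002240002200002050001f50001f40001f30001f10001e40001e20001d30001b40001b10001a40001a20001940001920001830001730001650001640001600001440001410001250001240001220001130001110001040001020000f30000e30000e10000c40000c10000b40000b20000a50000a30000a0000093000091000082000074000072000063000061000052000050000043000032000031000022000020000011000005000000 (Nat.mul 24 (Nat.land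 i 1023))) 16777215
end Cfsg.Agent.Lib.Helper6.TCD.G24a
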