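set_option autoImplicit false
namespace Cfsg.Agent.Lib.Helper6.TCD.G24a
noncomputable def HR (i : Nat) : Nat := Nat.land (Nat.shiftRight 0x11310001031000103100010110000f310000f310000f110000f310000f410000f210000f210000f210000f210000f210000f210000f210000e310000e410000f310000e310000e110000e410000e2100008420000e410000e410000e210000e310000a1200008320000e31000083200008320000e410000e210000e310000e310000e310000e310000e210000e210000e310000e1100008320000e310000e010000e310000e210000e010000e210000e0100009420000b320000e0100007420000d31000084200008320000d410000d110000e410000d410000d210000d31000073200007420000d410000d410000d210000d310000d210000d010000922000074200007420000d310000d410000d01000081200008020000d410000d110000d410000d210000d010000702000073200007420000d410000e210000d410000d210000e110000d310000d110000d210000d010000d210000d210000d310000d310000d110000e010000d010000d210000d11000071200007320000d410000e410000d310000d010000d01000073200007220000d310000d110000d110000d210000d010000d110000d110000d210000d310000d110000d3100008420000a320000d110000642000062200008420000c41000074200008220000c410000c210000d410000c310000c210000c010000602000063200006420000c310000c410000c210000e210000c310000c1100008220000c210000632000064200006220000c410000c11000084200007020000c410000c2100007320000c310000c11000061200006320000c410000e410000c310000c010000c010000e310000c310000c110000e310000c310000c010000c11000061200006320000c410000d310000c310000c0100006220000c310000c11000063200006220000c1100006420000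6320000c210000c210000c010000c110000c210000d110000c310000c010000d010000c010000c310000c1100009320000c010000b210000b0100005320000542000073200007220000b410000b2100008420000b310000b11000051200005320000b410000d310000b310000b0100008220000b11000051200005320000b410000b2100008320000b310000b0100005220000b310000b110000b110000d310000b010000b310000b110000b2100005220000b310000b1100005320000b21000054200005320000b21000052200005420000b310000b110000c010000b010000b310000b110000b110000b210000b1100009320000a11000041200004320000a4100008320000a310000a0100004220000a310000a1100009220000a0100004220000a310000a1100004320000a210000a210000a110000a210000a3100004320000a2100004420000a31000041200004420000a3100004320000a410000a210000a110000a210000a210000a310000a2100009220000901000032200009310000911000033200009210000911000033200009210000342000093100009310000921000093100009410000342000093100003320000941000030200009410000911000093100009210000931000093100009410000931000081100002320000821000024200008310000821000024200008310000232000084100008410000831000084100008210000212000084100008310000801000084100008410000831000084100008410000811000084100008410000721000014200007310000102000074100007310000132000074100007010000841000071100007410000731000071100007410000721000073100007410000711000074100007210000741000072100007310000631000000200006410000601000064100006110000731000064100006210000631000061100006410000621000063100006310000611000054100005110000541000052100006010000531000050100005310000511000052100004410000421000043100004110000421000040100003310000321000031100002210000201000011100000010000000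 (Nat.mul 28 (Nat.land i 1023))) 268435455
end Cfsg.Agent.Lib.Helper6.TCD.G24a
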