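set_option autoImplicit false
namespace Cfsg.Agent.Lib.Helper6.TCD.G24a
noncomputable def P0 (i : Nat) : Nat := Nat.land (Nat.shiftRight 0xcfe7b319cc8633339dc36171792c6e52f19bb45cf279acad8ac35eaee5f2d5ac1d9ec980a4d168979b8d8ef991994c6e134c74aef775954a64721b5c7ed38fc14723781bd62b131588e230f0e86e12830a84d5a3533a740ea335a3d4e01267e3eeff06a7cdafd7d7c3deb33a794522cf1785024eee7551aa174aa5deece5714b9cee6b95bedcdc9cd31d2d9b6bd2d8d3b547a3b66b2d5598cb654f6c13e63b1abece7fd72b6c361562aeda83d21d8eba9409db4d87ae9734ba52f57943a12d5692259cfe793b584e20305824de4aac96cb260e4574bdc2ab5534547286ac22489f6a279b6d790271bc9a67c419b198c45d2c9589c4930978642d2290512f9f4f956bf9fa8c47235ecf579a2140ef4eb8d76e87037d52854229906826eafcf6b16c3595ed23b34132c56232590723a1cd82c037add6cb8371b4f2b23d1e150a752a91026632990c66950a1d12862f26cb29349250b05747a2d145329170f85d2da00fe7e3e92c9449271dcd06a33914ea71380f87a3f361ac72382197c884231184c0321a118b44d279305c402a158aa261289ca250110b0564716920401f1790466361a87036281d0f076160b8dc3431180483a2a148842018118901a0c078781419098242a14038441c050581010060100c0200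 (Nat.mul 9 (Nat.land i 511))) 511
end Cfsg.Agent.Lib.Helper6.TCD.G24a
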