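set_option autoImplicit false
namespace Cfsg.Agent.Lib.Helper6.TCD.G24a
noncomputable def P1 (i : Nat) : Nat := Nat.land (Nat.shiftRight 0xcee6b3f96c667b1391c56732b7ec2ddf3190b95971b9bb0e5f3388bb5732760abe0aa950bfe52f742bed6e6f78c961e61749663e77689fcbe816c904a239708ccd31d1799c631784afc423786bd42e9713c1c1aab818253e0380a93fe6508acd29f5217c4a5f32492df1ed6db7ce218f3b8bbde33ebcba1cf66b1d35cd75b73825b736fb768d6a6dbd687446c356916b693399969aeb26cf62b23ad90d1ac4498b5e61b11953dad305814c5ed5a0b535daeaa2bca73b1d4b85bd268b475b5064cb39e2ca72b19d2bd5cfe8b3f55b369acc554a871a9d4b2e95b5e54a193b5941236f36a449d4dc7e28a24c4792d1d4bc3635154a24e230e87a4a150947a3a0f0081c091afc7dbdd14897a3c9e087773b5d28445b9500e4711f9c27f3e341b8d93d1e5a877699d4e8cf65b34e6c763308e0905faf9726d55ad56869581ace2ac361a0c4a952298c2a32f27d3c5c4e1d934994a95d0a912a1b91883431551082281589c5126a04fa482d1ec8a782197c7e5839198d46f298e8c8671d994c6371e0d06660208c4ba2e2d8ac8e2a2c8f84e4b279487223260d8484a2487c8c290f110361c2110060191e8982e351c0504215190bc222c16840500e1283040220982c3a1a048601a16090181e08038280604028040400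 (Nat.mul 9 (Nat.land i 511))) 511
end Cfsg.Agent.Lib.Helper6.TCD.G24a
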