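set_option autoImplicit false
namespace Cfsg.Agent.Lib.Helper6.TCD.G24a
noncomputable def P2 (i : Nat) : Nat := Nat.land (Nat.shiftRight 0xcf67f2f99c762b3986cee13037cbd5e6ed73b566ec762b266ac166ae662b596c1e0b2b80abdee8594bf64f25319e646df74c84be8b2abaca26d20b5e3e3d1fb3e22318bc6e322b898cc721d8785e161541bfd5a0d54a954ea34a8040e8efc93542131aa6c8ee2f793df6b0f29d44de1778b4fdf0f679db5f73499bc6f0efb94b9c12c715c1b96ea1d2db2e9a3431a76cb45a59f5e65d22bf65644eec2c79f40598ce7ed758522add6692bf83d557abca740a254f5cb021f4c9abb1d739a24e182c39bd02653d982d58cfa7cace48b255b9960e4544ad532d52341a5295028a4aa16b35d629e90b7534de8ec419b118da5537178a3b530977a435eafe842fa0b0446a41fe8f45ab5dc91753a1aae5432156c8873a09c2e33fa0506df4e369b0db3db50f0a364b4532c5621d99475389cd68ba5c1b9766f5b9acd4ac342bd5c6552aa94c6c53990c65f4f974b89d2d259285849165265546238a480452249c872694d087e3e944a0493e114f479221dce4741e958e03a331b4c4611b1a4ce331c8e0c03718900bc5b160b45446138f8ae3c1d950964a2413c4220260888e1e1407084430d104322f1f8984a240a8c86a34090c03a2e080ac521806858460b0887c261b050202e070a03c0a0e0600c1202030100200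 (Nat.mul 9 (Nat.land i 511))) 511
end Cfsg.Agent.Lib.Helper6.TCD.G24a
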