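set_option autoImplicit false
namespace Cfsg.Agent.Lib.Helper6.TCD.G24a
noncomputable def P3 (i : Nat) : Nat := Nat.land (Nat.shiftRight 0xce6672d9fc5e273d85c96772186c8e5f2795b2dcaf161cdddf356cbae533158b5d56a769a5572db41a04f6b38dc54c30f2d95e3a755d9fd3efb88c1ca3011b8d4d71f4e8b4cb191389486e17e8642af3849047b0504c0cbe051cb759231089bdfdf71094be21d239b3daf97bb7bc6f51477dc67139a5d0ecce775d89cb76a9386e8dfb9bca8f6a77369d0d8a2352bd576e5599b50b459d934d7fd8d8f3cb057d8d4865515875b60d69a74c5f339c7547154574cb8bbb570eaa4add89465ad09acd768caa7cb09dc9dfcae99bf159259a2aa62a982c0e5ca5962cd651f57c993f247a3d53b2284a85e6a24cc1a3a968043e32948ac4526f986a46169b4d41d1c9753c0518fd7d229ee9e6f3750ef06dbb108e941b99c8805da05c07d44341a47a6cad1aa7b602fd9e745e330e4c8629c184763aaf4dab9362d8f2a35899cccad5598d4ca83098948694e281125b2f2411e982ba54ac922c94d1a8b2813cf84d43214944b411f8fe48239dc88433c104de3e399c4763f370e0786b350d0d0353219464602f9185c5d2e0acb4402a1604a512a88c4c52120d8984e0f924622d0e914602c210a836180b8e47a371d0582620198445e1c1483c1c28138882a0c108283c090d0641a140304820080202c0a07018080200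 (Nat.mul 9 (Nat.land i 511))) 511
end Cfsg.Agent.Lib.Helper6.TCD.G24a
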