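set_option autoImplicit false
namespace Cfsg.Agent.Lib.Helper6.TCD.G24a
noncomputable def P5 (i : Nat) : Nat := Nat.land (Nat.shiftRight 0xcf67f3199cde47399dc36172b92c4e533590b663ac378c5ddb2765ae65f2d5ab5d530356b75d6db79b7d82f98c9862afd2cb9dca5545bddfefb8fc1c823d2199c6311648acc71b7a8bc6e1d8785e12830a946020982a9d4a0f00a553a6b2492d3e52f97dbdee1237b4dab33fa03c226ef8a3c9dd277450a9ae6b3b96c57797b91bf7495dc693579c366974ca23d6d16a69da59ecbaf3ad9166afb1ec73b9ebfd94c46357584c1add61b8d8a8af1775581af97350892e1dae9a3ada90b5a350e44b4594e9613e9e4e5faad8d2b1f937554d2652e53b8952a496a8da30958a7e4d084f35140d68fa69ba9c8ea5d32958e44529198b43d251048c36188f50c091b0682a3202fe453e9f0f4443cdb6f143a11d8ea4139dc27f71a04fae06f1ed7ed56d35cf4d03ab499a73671c998c938315866f601b57aba35adcd2b3579a0caae31aad4c61541814a7951274f85d2f16536574c258aa93481491c50459391286269290a4941921007e2e1dcf05f22114ec3d3a0ece2541c1b86e6c1a1a8ce3319198c86221900b45b238b45c461f894b0242b0e84453288803e4f2612c582b14104843118070362f138587c3c118e424361a868302a14878201d0b8982a14050841e19088241a0c0584c1c05038181004018080001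 (Nat.mul 9 (Nat.land i 511))) 511
end Cfsg.Agent.Lib.Helper6.TCD.G24a
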