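set_option autoImplicit false
namespace Cfsg.Agent.Lib.Helper6.TCD.G24a
noncomputable def Q15 (i : Nat) : Nat := Nat.land (Nat.shiftRight 0xcce73259eb95df3f94cb562a7419ed66612b9462e2d32a76262735bf616159db5d57216990501ed86ae6472ee58a64e7f2dcad4a1cf2c3daa8757c1d96acdc8d5b29b9bbc5858f9a64d428b7560e62b57ca54799d0497e06057f65b8a52ea6d471a7678c51274b5775b7092ab8d81618ab1dbe8d4268df692e775cfb1b3bc73854adf81d763f4f9b4dd3eac7c56e13888de01332180442258f4a3bf191578ae92d065c5c122d4865e5f69a5f6091c97b2546bf6e4626d9508b32ba673891ce6170da5deec57abb3de22b762379b0dd41aa9e0a9405cdc9743ea8943473d341d0d27abd10eb4af2c97eb366d223ac6b41c980ff9e3f8e8bc6bb0daceda641dc754369da2e75362124ec27e4953b313399914a39a18e5d0530a99572c3dc9a48af4e488b6888cbcd9e937ca421e8f2b15d3d017e94d4e597d1409ee926b6dd84a70399028b5d92d04476c91086d520b31903e381bd8a3b5caf470a85b1e468b1341b95a62520f0d632348b940892e9792a98129c5242342a34fc7f1b1f10c1f13148902418900ee78160c054460b960e6512a8fcc865301a826201a858be110c070565c079681c1d2a0e47a370a924984e050b45e450490836280688874060f0cc4229090204e04060680a190a00c20020581c0200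 (Nat.mul 9 (Nat.land i 511))) 511
end Cfsg.Agent.Lib.Helper6.TCD.G24a
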