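set_option autoImplicit false
namespace Cfsg.Agent.Lib.Helper6.TCD.G24a
noncomputable def Q22 (i : Nat) : Nat := Nat.land (Nat.shiftRight 0xc35db155ab9e3af59fae582c6ef8adbec531b8dd3099ec0e22c8978e647390bb745e334f56c69f8b263d9edb977dcd1a765b33826d3c4d5117eebc7b46372faa5a6bb82ade63335f39c6334ce6664e4f225c410eb6180af5fe827741aab0c601ae5180a9bcef3759abb1b3779bb4a90b550509aa6863426ad2ccadf30eab5437e8f8c903cae50872a85f4b19d2b2d494bfb1194e6cdaf23b1086bd70b434d955911e81e7712ed4c3c2d69e5dc7d1f14a81bccab05a2fa0b58805469526c922c9cdb48df9d170434f60e8da9652708552642f6a787d5cc68a78c58b96c60ba68c782e97dec9cc1915a8c94932cb333bc62d32c5acae59f5e9f658e28c51949b92aa62d9106e8144a1525981aa97406b9fe9d7d72388a07059924c2afa2bf8b5137b9edf1213927c7a95873e71a5866c4683291d536472436a41ad3f511f25d2b70b8c6e3b449209aeaa4cc986b76d5a04efd614ecae766c2aa724a2a1e9a07718aa65aa6360906c3357379ce9340275ba847a0947e963ea1c64152d978541e40a0ca2212990cf2a52b188882e5d0e0d216069d0c06705904841c0c9904639158b0fc341e11c5a1b4708840071f13052460805014400d07c6005330482e26040bc06280784c9e4b060603a061a8081211000380801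 (Nat.mul 9 (Nat.land i 511))) 511
end Cfsg.Agent.Lib.Helper6.TCD.G24a
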