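set_option autoImplicit false
namespace Cfsg.Agent.Lib.Helper6.TCD.G24a
noncomputable def Q23 (i : Nat) : Nat := Nat.land (Nat.shiftRight 0xcfe7b3a28cde685f98cb8640e5a0d11723901ee38438c05e283d88c3e18202966898192e3b17d46773e0acbd782edd8b974b989cd26a3c965bc584c95ed2551e59aca141ad8824301cd7abb5c2106f29794b391c616714af06e06fcbd0571bf4b53685552689cdd9827324d74f3cdd07a44351613c3db415734121a262781faf8dd2c1d224ea7277deeeb2a68db4e27438479031c8dab89718112b03eb39bdfca31094c38993616df1933bb5aa2d8a7b955aaea4b7521b94573b4ccae5695defb234fb590eb24ebc6132142286e0a245b990d02481519e8e2948968949d3c2df146aac680db49a45e90c5333aa262658ddda3275524c8c4a30ce851a8b602407fc7c1a50f99ac7e65446c369e4af9cb02d0bf5b9ae3aba37b85306d7acf58f3f9f2824ec16330e0e7e4bc0490fd7d125ef5575d42d4bc7dd364908773e1fc8f62a2952cc46294e72689ce1b3438544a1ebd302e5d8b68252a0111a3ba698b586c657083492012a7da5d61ed25add65ff0546d9d5b53afd3cd8cab1bf1846733320c661b0666830bbd16f099ca7609765699d48a717286349f152692b124723568899321e588240818faa83bb20e06d611a0c43b85170b05418c0897162309880221c0783b2a170a8281208068180a04018080200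 (Nat.mul 9 (Nat.land i 511))) 511
end Cfsg.Agent.Lib.Helper6.TCD.G24a
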