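import Cfsg.Agent.Lib.Helper6.TCD.G24a.SH
import Cfsg.Agent.Lib.Helper6.TCD.G24a.SC
import Cfsg.Agent.Lib.Helper6.TCD.G24a.NH
import Cfsg.Agent.Lib.Helper6.TCD.G24a.NC
import Cfsg.Agent.Lib.Helper6.TCD.G24a.WD
import Cfsg.Agent.Lib.Helper6.TCD.G24a.WI
import Cfsg.Agent.Lib.Helper6.TCD.G24a.P0
import Cfsg.Agent.Lib.Helper6.TCD.G24a.P1
import Cfsg.Agent.Lib.Helper6.TCD.G24a.P2
import Cfsg.Agent.Lib.Helper6.TCD.G24a.P3
import Cfsg.Agent.Lib.Helper6.TCD.G24a.P4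
import Cfsg.Agent.Lib.Helper6.TCD.G24a.P5
import Cfsg.Agent.Lib.Helper6.TCD.G24a.GT
import Cfsg.Agent.Lib.Helper6.TCD.G24a.HR
import Cfsg.Agent.Lib.Helper6.TCD.G24a.Q15
import Cfsg.Agent.Lib.Helper6.TCD.G24a.Q22
import Cfsg.Agent.Lib.Helper6.TCD.G24a.Q23
set_option autoImplicit false
namespace Cfsg.Agent.Lib.Helper6.TCD.G24a
def n : Nat := 1396
def ncol : Nat := 6
def nrw : Nat := 114
def nw : Nat := 119
def tmax : Nat := 7649
def INV : Nat := 5517840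
def N : Nat := 416
noncomputable def px (c p : Nat) : Nat := Nat.rec (motive := fun _ => Nat) (P0 p) (fun k0 _ => Nat.rec (motive := fun _ => Nat) (P1 p) (fun k1 _ => Nat.rec (motive := fun _ => Nat) (P2 p) (fun k2 _ => Nat.rec (motive := fun _ => Nat) (P3 p) (fun k3 _ => Nat.rec (motive := fun _ => Nat) (P4 p) (fun k4 _ => P5 p) k3) k2) k1) k0) c
noncomputable def H0 (p : Nat) : Nat := P0 p
noncomputable def H1 (p : Nat) : Nat := P1 p
noncomputable def H2 (p : Nat) : Nat := P2 p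
noncomputable def H3 (p : Nat) : Nat := P3 p
noncomputable def H4 (p : Nat) : Nat := P4 p
noncomputable def hsel (c p : Nat) : Nat := Nat.rec (motive := fun _ => Nat) (H0 p) (fun k0 _ => Nat.rec (motive := fun _ => Nat) (H1 p) (fun k1 _ => Nat.rec (motive := fun _ => Nat) (H2 p) (fun k2 _ => Nat.rec (motive := fun _ => Nat) (H3 p) (fun k3 _ => H4 p) k2) k1) k0) c
noncomputable def lab (p : Nat) : Nat := Nat.land (HR p) 15
noncomputable def rnk (p : Nat) : Nat := Nat.shiftRight (HR p) 8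
noncomputable def mv (p : Nat) : Nat := hsel (Nat.land (Nat.shiftRight (HR p) 4) 15) p
noncomputable def isRoot (p : Nat) : Bool := Bool.rec (Bool.rec (Bool.rec (false) true (Nat.beq p 38)) true (Nat.beq p 1)) true (Nat.beq p 0)
noncomputable def R6 (p : Nat) : Nat := P1 (P0 (P1 (P0 (P1 (P0 (P1 (P0 (P1 (P0 p)))))))))
noncomputable def R7 (p : Nat) : Nat := P2 (P0 (P2 (P0 p)))
noncomputable def R8 (p : Nat) : Nat := P3 (P0 (P3 (P0 p)))
noncomputable def R9 (p : Nat) : Nat := P4 (P0 (P4 (P0 p)))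
noncomputable def R10 (p : Nat) : Nat := P5 (P0 (P5 (P0 p)))
noncomputable def R11 (p : Nat) : Nat := P2 (P1 (P2 (P1 (P2 (P1 p)))))
noncomputable def R12 (p : Nat) : Nat := P3 (P1 (P3 (P1 p)))
noncomputable def R13 (p : Nat) : Nat := P4 (P1 (P4 (P1 p)))
noncomputable def R14 (p : Nat) : Nat := P5 (P1 (P5 (P1 (P5 (P1 p)))))
noncomputable def U15 (p : Nat) : Nat := P3 (P2 p)
noncomputable def R15 (p : Nat) : Nat := Q15 (Q15 (Q15 (Q15 (Q15 (Q15 (Q15 (Q15 p)))))))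
noncomputable def R16 (p : Nat) : Nat := P4 (P2 (P4 (P2 p)))
noncomputable def R17 (p : Nat) : Nat := P5 (P2 (P5 (P2 p)))
noncomputable def R18 (p : Nat) : Nat := P4 (P3 (P4 (P3 (P4 (P3 p)))))
noncomputable def R19 (p : Nat) : Nat := P5 (P3 (P5 (P3 p)))
noncomputable def R20 (p : Nat) : Nat := P5 (P4 (P5 (P4 p)))
noncomputable def R21 (p : Nat) : Nat := P2 (P3 (P2 (P3 (P2 (P3 (P2 (P3 (P0 p))))))))
noncomputable def U22 (p : Nat) : Nat := P5 (P2 (P1 (P0 p)))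
noncomputable def R22 (p : Nat) : Nat := Q22 (Q22 (Q22 (Q22 (Q22 p))))
noncomputable def U23 (p : Nat) : Nat := P4 (P3 (P2 (P3 (P2 (P1 (P3 (P2 (P3 (P2 (P1 (P3 (P2 (P3 (P2 (P1 (P3 (P2 (P3 (P2 (P1 (P3 (P2 (P3 (P2 (P1 p)))))))))))))))))))))))))
noncomputable def R23 (p : Nat) : Nat := Q23 (Q23 (Q23 p))
end Cfsg.Agent.Lib.Helper6.TCD.G24a
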