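set_option autoImplicit false
namespace Cfsg.Agent.Lib.Helper6.TCD.G24a
noncomputable def P4 (i : Nat) : Nat := Nat.land (Nat.shiftRight 0xce6672d9fc5e273d85c2677217cc8de72795b7592f161cdd83355fadd6b3197b5dd2e751b650af794beddb258d9bdea6d82c0cbe8946b6e3edf7fc1ca23b299a4662f8e98c57198ac44461b0bc3e1ab1599041e0b2c81d3b01017fd49fb1489c4a42fa87dc1ef71865fa153fa049a4af3923c9e8f5bbdd5db67733aac6e8b9391c7547148ed16a914fa7b3b9549e93576e33ed2cc653b2ccc8b2ba6c54ca5d2abcc5a3b0abb43ae505a6d1ab2f6aabba9b36a0b9a7b269ac7635216cc3a2b0671399e4e966d9592d26b1a56cca2d30574cd592e96cad4ca853b69b11f6ab79e0dd6b35db69e84a8610a28f262051c4ac6dfd187e3ee20927c439ec9b4d2660c8d8225a009449be522ee78bbd408844b9dd6e542a1102e06fb84fc7f4fb41a4b151b50f27b602fd7cce39ae996b85bb116a763a9d17872389c15eb0349a956aa32195526252294c07a4e1f13a5c2f2411e8e4ba31168a2c960ae512aa190e4e2612d048324a00907d2e9dcbe7821114de6e368f0d63f1c8f4d8371a9a06667330c8c661180bcb42d1596c52282a098a4561209ca622280849e1f269283c472306c881a2186482401d0f82c3b0a0e06c121a0c43a10170b0541806094162309880221c078380e170a8281208068180a04018080200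 (Nat.mul 9 (Nat.land i 511))) 511
end Cfsg.Agent.Lib.Helper6.TCD.G24a
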